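import Mathlib

/-!
# The dictionary of a Galois category

For a Galois category with fibre functor `F`: morphisms out of connected objects correspond to
inclusions of stabilisers, open subgroups of `Aut F` are stabilisers of points of connected objects,
and a closed subgroup is cut out by the open subgroups containing it.
-/

set_option autoImplicit false

open CategoryTheory CategoryTheory.Limits CategoryTheory.PreGaloisCategory

namespace Groth.Agent.GalDict

universe u v w

variable {C : Type u} [Category.{v} C] [GaloisCategory C] (F : C ⥤ FintypeCat.{w}) [FiberFunctor F]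

omit [GaloisCategory C] [FiberFunctor F] in
theorem smul_map {X Y : C} (σ : Aut F) (f : X ⟶ Y) (x : F.obj X) :
    σ • F.map f x = F.map f (σ • x) :=
  NatTrans.naturality_apply σ.hom f x

omit [GaloisCategory C] [FiberFunctor F] in
theorem stabilizer_map_le {X Y : C} (f : X ⟶ Y) (x : F.obj X) :
    MulAction.stabilizer (Aut F) x ≤ MulAction.stabilizer (Aut F) (F.map f x) := fun σ hσ => by
  rw [MulAction.mem_stabilizer_iff, smul_map, MulAction.mem_stabilizer_iff.1 hσ]

theorem injective_of_mono {X Y : C} (f : X ⟶ Y) [Mono f] : Function.Injective (F.map f) :=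
  ConcreteCategory.injective_of_mono_of_preservesPullback (F.map f)

omit [GaloisCategory C] [FiberFunctor F] in
theorem isIso_of_bijective [F.ReflectsIsomorphisms] {X Y : C} (f : X ⟶ Y)
    (hf : Function.Bijective (F.map f)) : IsIso f := by
  haveI : IsIso (F.map f) := (ConcreteCategory.isIso_iff_bijective (F.map f)).mpr hf
  exact isIso_of_reflects_iso f F

theorem isIso_of_bijective' {X Y : C} (f : X ⟶ Y) (hf : Function.Bijective (F.map f)) : IsIso f :=
  haveI := FiberFunctor.reflectsIsos (F := F)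
  isIso_of_bijective F f hf

theorem stabilizer_map_eq {X Y : C} (f : X ⟶ Y) [Mono f] (x : F.obj X) :
    MulAction.stabilizer (Aut F) (F.map f x) = MulAction.stabilizer (Aut F) x := by
  refine le_antisymm (fun σ hσ => ?_) (stabilizer_map_le F f x)
  rw [MulAction.mem_stabilizer_iff] at hσ ⊢
  exact injective_of_mono F f ((smul_map F σ f x).symm.trans hσ)

/-- a morphism from a connected object exists as soon as the stabilisers allow it -/
theorem exists_hom {X Y : C} [IsConnected X] (a : F.obj X) (b : F.obj Y)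
    (h : MulAction.stabilizer (Aut F) a ≤ MulAction.stabilizer (Aut F) b) :
    ∃ f : X ⟶ Y, F.map f a = b := by
  obtain ⟨Z, i, z, hz, hconn, hmono⟩ :=
    fiber_in_connected_component F (X ⨯ Y) ((fiberBinaryProductEquiv F X Y).symm (a, b))
  have hfst : F.map (i ≫ prod.fst) z = a := by
    rw [F.map_comp, FintypeCat.comp_apply, hz, fiberBinaryProductEquiv_symm_fst_apply]
  have hsnd : F.map (i ≫ prod.snd) z = b := by
    rw [F.map_comp, FintypeCat.comp_apply, hz, fiberBinaryProductEquiv_symm_snd_apply]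
  haveI : Nonempty (F.obj Z) := ⟨z⟩
  have hinj : Function.Injective (F.map (i ≫ prod.fst)) := fun p q hpq => by
    obtain ⟨σ, rfl⟩ := MulAction.exists_smul_eq (Aut F) z p
    obtain ⟨τ, rfl⟩ := MulAction.exists_smul_eq (Aut F) z q
    rw [← smul_map, ← smul_map, hfst] at hpq
    have hm : τ⁻¹ * σ ∈ MulAction.stabilizer (Aut F) a := by
      rw [MulAction.mem_stabilizer_iff, mul_smul, hpq, inv_smul_smul]
    have hb : σ • b = τ • b := by
      have := MulAction.mem_stabilizer_iff.1 (h hm)
      rw [mul_smul, inv_smul_eq_iff] at this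
      exact this
    apply injective_of_mono F i
    rw [← smul_map, ← smul_map, hz]
    apply (fiberBinaryProductEquiv F X Y).injective
    apply (fiberBinaryProductEquiv F X Y).symm.injective
    simp only [Equiv.symm_apply_apply]
    have key : ∀ ρ : Aut F, ρ • (fiberBinaryProductEquiv F X Y).symm (a, b) =
        (fiberBinaryProductEquiv F X Y).symm (ρ • a, ρ • b) := fun ρ => by
      obtain ⟨⟨a', b'⟩, hab⟩ := (fiberBinaryProductEquiv F X Y).symm.surjective
        (ρ • (fiberBinaryProductEquiv F X Y).symm (a, b))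
      have h1 := congrArg (F.map (prod.fst : X ⨯ Y ⟶ X)) hab
      have h2 := congrArg (F.map (prod.snd : X ⨯ Y ⟶ Y)) hab
      rw [← smul_map, fiberBinaryProductEquiv_symm_fst_apply,
        fiberBinaryProductEquiv_symm_fst_apply] at h1
      rw [← smul_map, fiberBinaryProductEquiv_symm_snd_apply,
        fiberBinaryProductEquiv_symm_snd_apply] at h2
      rw [← hab, h1, h2]
    rw [key, key, hpq, hb]
  haveI : IsIso (i ≫ prod.fst) :=
    isIso_of_bijective' F _ ⟨hinj, surjective_of_nonempty_fiber_of_isConnected F _⟩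
  refine ⟨inv (i ≫ prod.fst) ≫ i ≫ prod.snd, ?_⟩
  rw [← hfst, ← hsnd, ← FintypeCat.comp_apply, ← F.map_comp, IsIso.hom_inv_id_assoc]

theorem isConnected_of_transitive {X : C} (x : F.obj X)
    (h : ∀ y : F.obj X, ∃ σ : Aut F, σ • x = y) : IsConnected X where
  notInitial hi := not_initial_of_inhabited F x hi
  noTrivialComponent Y i _ hY := by
    obtain ⟨y⟩ := (not_initial_iff_fiber_nonempty F Y).1 hY
    refine isIso_of_bijective' F i ⟨injective_of_mono F i, fun z => ?_⟩
    obtain ⟨σ, hσ⟩ := h (F.map i y)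
    obtain ⟨τ, hτ⟩ := h z
    refine ⟨(τ * σ⁻¹) • y, ?_⟩
    rw [← smul_map, mul_smul, ← hσ, inv_smul_smul, hτ]

noncomputable instance uniqueTerminal : Unique (F.obj (⊤_ C)) :=
  haveI := FiberFunctor.preservesTerminalObjects (F := F)
  ((Types.isTerminalEquivUnique _).toFun
    (IsTerminal.isTerminalObj (F ⋙ FintypeCat.incl) _ terminalIsTerminal))

theorem isConnected_terminal (F : C ⥤ FintypeCat.{w}) [FiberFunctor F] :
    IsConnected (⊤_ C) :=
  isConnected_of_transitive F (default : F.obj (⊤_ C)) fun y => ⟨1, Subsingleton.elim _ _⟩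

/-- a fixed point comes from a section over the final object -/
theorem exists_section {X : C} (x : F.obj X) (h : ∀ σ : Aut F, σ • x = x) :
    ∃ s : ⊤_ C ⟶ X, ∀ t : F.obj (⊤_ C), F.map s t = x := by
  haveI := isConnected_terminal F
  obtain ⟨s, hs⟩ := exists_hom F (default : F.obj (⊤_ C)) x fun σ _ => h σ
  exact ⟨s, fun t => by rw [Subsingleton.elim t default, hs]⟩

theorem smul_of_section {X : C} (s : ⊤_ C ⟶ X) (t : F.obj (⊤_ C)) (σ : Aut F) :
    σ • F.map s t = F.map s t := by
  rw [smul_map, Subsingleton.elim (σ • t) t]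

theorem jointly_surjective_sigma {ι : Type*} [Finite ι] (f : ι → C) (z : F.obj (∐ f)) :
    ∃ (i : ι) (y : F.obj (f i)), F.map (Sigma.ι f i) y = z := by
  obtain ⟨n, ⟨e⟩⟩ := Finite.exists_equiv_fin ι
  have := preservesColimitsOfShape_of_equiv (Discrete.equivalence e.symm) F
  obtain ⟨⟨j⟩, y, hy⟩ := Concrete.isColimit_exists_rep _
    (isColimitOfPreserves F (colimit.isColimit (Discrete.functor f))) z
  exact ⟨j, y, hy⟩

/-- the finite sums of points are the objects with trivial action -/
theorem trivial_iff {X : C} :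
    (∀ (σ : Aut F) (x : F.obj X), σ • x = x) ↔
      ∃ n : ℕ, Nonempty (X ≅ ∐ fun _ : Fin n => ⊤_ C) := by
  constructor
  · intro h
    choose s hs using fun x : F.obj X => exists_section F x fun σ => h σ x
    let e := Finite.equivFin (F.obj X)
    let Φ : (∐ fun _ : Fin (Nat.card (F.obj X)) => ⊤_ C) ⟶ X :=
      Sigma.desc fun k => s (e.symm k)
    have hcomp : ∀ (k) (t), F.map Φ (F.map (Sigma.ι (fun _ => ⊤_ C) k) t) = e.symm k := fun k t => by
      rw [← FintypeCat.comp_apply, ← F.map_comp, Sigma.ι_desc, hs]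
    have hb : Function.Bijective (F.map Φ) := by
      refine ⟨fun p q hpq => ?_, fun x => ?_⟩
      · obtain ⟨i, t, rfl⟩ := jointly_surjective_sigma F _ p
        obtain ⟨j, t', rfl⟩ := jointly_surjective_sigma F _ q
        rw [hcomp, hcomp, e.symm.injective.eq_iff] at hpq
        subst hpq
        rw [Subsingleton.elim t t']
      · exact ⟨F.map (Sigma.ι _ (e x)) default, by rw [hcomp, e.symm_apply_apply]⟩
    haveI := isIso_of_bijective' F Φ hb
    exact ⟨_, ⟨(asIso Φ).symm⟩⟩
  · rintro ⟨n, ⟨e⟩⟩ σ x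
    obtain ⟨i, t, ht⟩ := jointly_surjective_sigma F _ (F.map e.hom x)
    have : σ • F.map e.hom x = F.map e.hom x := by
      rw [← ht, smul_map, Subsingleton.elim (σ • t) t]
    rw [smul_map] at this
    exact injective_of_mono F e.hom this

/-- every open subgroup is the stabiliser of a point of a connected object -/
theorem exists_stabilizer_eq (V : OpenSubgroup (Aut F)) :
    ∃ (X : C) (_ : IsConnected X) (x : F.obj X), MulAction.stabilizer (Aut F) x = V.toSubgroup := by
  let G := F ⋙ FintypeCat.uSwitch.{w, u}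
  haveI : FiberFunctor G := FiberFunctor.comp_right _
  let ψ : Aut F ≃ₜ* Aut G :=
    autEquivAutWhiskerRight F (Functor.FullyFaithful.ofFullyFaithful FintypeCat.uSwitch.{w, u})
  let V' : OpenSubgroup (Aut G) :=
    V.comap ψ.symm.toMulEquiv.toMonoidHom ψ.symm.continuous_toFun
  obtain ⟨X, ⟨iso⟩⟩ := exists_lift_of_quotient_openSubgroup (F := G) V'
  let φ : G.obj X → Aut G ⧸ V'.toSubgroup := fun y => iso.hom.hom y
  have comm : ∀ (g : Aut G) (y : G.obj X), φ (g • y) = g • φ y :=
    fun g y => ConcreteCategory.congr_hom (iso.hom.comm g) y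
  have hbij : Function.Bijective φ := by
    refine Function.bijective_iff_has_inverse.2 ⟨fun q => iso.inv.hom q, fun y => ?_, fun y => ?_⟩
    · exact ConcreteCategory.congr_hom (congrArg Action.Hom.hom iso.hom_inv_id) y
    · exact ConcreteCategory.congr_hom (congrArg Action.Hom.hom iso.inv_hom_id) y
  obtain ⟨x₀, hx₀⟩ : ∃ x₀ : G.obj X, φ x₀ = ((1 : Aut G) : Aut G ⧸ V'.toSubgroup) := hbij.2 _
  let e : G.obj X ≃ F.obj X := (F.obj X).uSwitchEquiv
  have hψ : ∀ (σ : Aut F) (y : G.obj X), e (ψ σ • y) = σ • e y :=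
    fun σ y => (FintypeCat.uSwitchEquiv_naturality (σ.hom.app X) y).symm
  refine ⟨X, isConnected_of_transitive F (e x₀) fun y => ?_, e x₀, ?_⟩
  · obtain ⟨g, hg⟩ := QuotientGroup.mk_surjective (φ (e.symm y))
    refine ⟨ψ.symm g, ?_⟩
    have h1 : g • x₀ = e.symm y := hbij.1 (by
      rw [comm, hx₀, ← hg]
      exact congrArg QuotientGroup.mk (mul_one g))
    rw [← hψ, ψ.apply_symm_apply, h1, e.apply_symm_apply]
  · ext σ
    rw [MulAction.mem_stabilizer_iff, ← hψ, e.injective.eq_iff, ← hbij.1.eq_iff, comm, hx₀]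
    show ((ψ σ * 1 : Aut G) : Aut G ⧸ V'.toSubgroup) = ((1 : Aut G) : Aut G ⧸ V'.toSubgroup) ↔ _
    rw [mul_one, eq_comm, QuotientGroup.eq, inv_one, one_mul]
    show ψ.symm (ψ σ) ∈ V ↔ _
    rw [ψ.symm_apply_apply]
    rfl

/-- a closed subgroup is the intersection of the open subgroups containing it -/
theorem mem_of_forall_open (K : Subgroup (Aut F)) (hK : IsClosed (K : Set (Aut F))) (σ : Aut F)
    (h : ∀ V : OpenSubgroup (Aut F), K ≤ V.toSubgroup → σ ∈ V) : σ ∈ K := by
  by_contra hσ
  have hU : IsOpen ((fun g => σ * g) ⁻¹' (K : Set (Aut F))ᶜ) :=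
    hK.isOpen_compl.preimage (continuous_const_mul σ)
  obtain ⟨A, -, hA⟩ := (nhds_one_has_basis_stabilizers F).mem_iff.1
    (hU.mem_nhds (show (1 : Aut F) ∈ (fun g => σ * g) ⁻¹' (K : Set (Aut F))ᶜ by simpa using hσ))
  let N := MulAction.stabilizer (Aut F) A.pt
  haveI : N.Normal := stabilizer_normal_of_isGalois F A.obj A.pt
  have hopen : IsOpen ((K ⊔ N : Subgroup (Aut F)) : Set (Aut F)) :=
    Subgroup.isOpen_mono (le_sup_right : N ≤ K ⊔ N) (stabilizer_isOpen (Aut F) A.pt)
  have hσm : σ ∈ K ⊔ N := h ⟨K ⊔ N, hopen⟩ le_sup_left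
  rw [Subgroup.mem_sup_of_normal_right] at hσm
  obtain ⟨k, hk, n, hn, rfl⟩ := hσm
  refine hA (N.inv_mem hn) ?_
  simpa using hk

theorem eq_top_of_forall_connected (K : Subgroup (Aut F)) (hK : IsClosed (K : Set (Aut F)))
    (h : ∀ (X : C) [IsConnected X] (x : F.obj X), K ≤ MulAction.stabilizer (Aut F) x →
      MulAction.stabilizer (Aut F) x = ⊤) : K = ⊤ := by
  refine eq_top_iff.2 fun σ _ => mem_of_forall_open F K hK σ fun V hV => ?_
  obtain ⟨X, hX, x, hx⟩ := exists_stabilizer_eq F V
  have := h X x (hx ▸ hV)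
  rw [hx] at this
  exact (this ▸ Subgroup.mem_top σ : σ ∈ V.toSubgroup)

end Groth.Agent.GalDict
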