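import Mathlib
import Groth.Agent.GalDict.Basic

/-!
# Uniqueness of fibre functors
-/

set_option autoImplicit false

open CategoryTheory CategoryTheory.Limits CategoryTheory.PreGaloisCategory

namespace Groth.Agent.GalDict

universe u v w

variable {C : Type u} [Category.{v} C] [GaloisCategory C]
  (F : C ⥤ FintypeCat.{w}) [FiberFunctor F] (F' : C ⥤ FintypeCat.{w})
  [PreservesFiniteLimits F'] [PreservesColimitsOfShape (Discrete WalkingPair) F']
  (hne : ∀ X : C, IsEmpty (F'.obj X) → Nonempty (IsInitial X))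

omit [PreservesFiniteLimits F'] [PreservesColimitsOfShape (Discrete WalkingPair) F'] in
theorem isCofilteredOrEmpty : IsCofilteredOrEmpty (PointedGaloisObject F) where
  cone_objs := fun ⟨A, a, _⟩ ⟨B, b, _⟩ => by
    obtain ⟨Z, f, z, hgal, hfz⟩ := exists_hom_from_galois_of_fiber F (A ⨯ B)
      <| (fiberBinaryProductEquiv F A B).symm (a, b)
    refine ⟨⟨Z, z, hgal⟩, ⟨f ≫ prod.fst, ?_⟩, ⟨f ≫ prod.snd, ?_⟩, trivial⟩
    · simp only [F.map_comp, hfz, FintypeCat.comp_apply, fiberBinaryProductEquiv_symm_fst_apply]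
    · simp only [F.map_comp, hfz, FintypeCat.comp_apply, fiberBinaryProductEquiv_symm_snd_apply]
  cone_maps := fun ⟨A, a, _⟩ ⟨B, b, _⟩ ⟨f, hf⟩ ⟨g, hg⟩ => by
    obtain ⟨Z, h, z, hgal, hhz⟩ := exists_hom_from_galois_of_fiber F A a
    refine ⟨⟨Z, z, hgal⟩, ⟨h, hhz⟩, PointedGaloisObject.hom_ext ?_⟩
    apply evaluation_injective_of_isConnected F Z B z
    simp [hhz, hf, hg]

omit [FiberFunctor F] [PreservesFiniteLimits F'] in
theorem isEmpty_initial {X : C} (hX : IsInitial X) : IsEmpty (F'.obj X) := by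
  refine ⟨fun x => ?_⟩
  let c : BinaryCofan X X := BinaryCofan.mk (𝟙 X) (𝟙 X)
  have hc : IsColimit c := BinaryCofan.IsColimit.mk c (fun f _ => f) (fun f g => Category.id_comp f)
    (fun f g => hX.hom_ext _ _) (fun f g m _ _ => hX.hom_ext _ _)
  have h' : IsColimit (BinaryCofan.mk ((F' ⋙ FintypeCat.incl).map (𝟙 X))
      ((F' ⋙ FintypeCat.incl).map (𝟙 X))) :=
    mapIsColimitOfPreservesOfIsColimit (F' ⋙ FintypeCat.incl) _ _ hc
  obtain ⟨-, -, h3⟩ := (Types.binaryCofan_isColimit_iff _).1 ⟨h'⟩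
  exact h3.disjoint.le_bot ⟨⟨x, rfl⟩, ⟨x, rfl⟩⟩ |>.elim

include F in
/-- every point of the new functor lies in a connected component -/
theorem exists_component (n : ℕ) : ∀ (Z : C) (p : F'.obj Z), Nat.card (F.obj Z) = n →
    ∃ (Y : C) (i : Y ⟶ Z) (q : F'.obj Y), IsConnected Y ∧ Mono i ∧ F'.map i q = p := by
  induction n using Nat.strong_induction_on with
  | _ n ih =>
    intro Z p hn
    subst hn
    have hnI : IsInitial Z → False := fun hI => (isEmpty_initial F' hI).false p
    by_cases hc : IsConnected Z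
    · exact ⟨Z, 𝟙 Z, p, hc, inferInstance, by rw [F'.map_id, FintypeCat.id_apply]⟩
    · obtain ⟨Y, i, hY, hmono, hiso⟩ := has_non_trivial_subobject_of_not_isConnected_of_not_initial Z hc hnI
      obtain ⟨W, j, ⟨hWc⟩⟩ := PreGaloisCategory.monoInducesIsoOnDirectSummand i
      have hcard : Nat.card (F.obj Z) = Nat.card (F.obj Y) + Nat.card (F.obj W) := by
        rw [← card_fiber_coprod_eq_sum F Y W]
        exact card_fiber_eq_of_iso F ((colimit.isColimit _).coconePointUniqueUpToIso hWc).symm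
      have hYlt : Nat.card (F.obj Y) < Nat.card (F.obj Z) := lt_card_fiber_of_mono_of_notIso F i hiso
      have hYpos : Nat.card (F.obj Y) ≠ 0 := non_zero_card_fiber_of_not_initial F Y hY
      have h' : IsColimit (BinaryCofan.mk ((F' ⋙ FintypeCat.incl).map i)
          ((F' ⋙ FintypeCat.incl).map j)) :=
        mapIsColimitOfPreservesOfIsColimit (F' ⋙ FintypeCat.incl) _ _ hWc
      obtain ⟨-, -, h3⟩ := (Types.binaryCofan_isColimit_iff _).1 ⟨h'⟩
      haveI : Mono j := MonoCoprod.binaryCofan_inr _ hWc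
      rcases (h3.codisjoint.top_le (Set.mem_univ p)) with ⟨q, hq⟩ | ⟨q, hq⟩
      · obtain ⟨Y₁, i₁, q₁, h1, h2, e⟩ := ih _ hYlt Y q rfl
        refine ⟨Y₁, i₁ ≫ i, q₁, h1, mono_comp _ _, ?_⟩
        rw [F'.map_comp, FintypeCat.comp_apply, e]
        exact hq
      · obtain ⟨Y₁, i₁, q₁, h1, h2, e⟩ := ih _ (by omega) W q rfl
        refine ⟨Y₁, i₁ ≫ j, q₁, h1, mono_comp _ _, ?_⟩
        rw [F'.map_comp, FintypeCat.comp_apply, e]
        exact hq

include hne in
/-- a functor preserving finite limits and binary sums, nonempty on nonempty objects, is the fibre functor -/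
theorem nonempty_iso : Nonempty (F' ≅ F) := by
  haveI : ∀ A : PointedGaloisObject F, Nonempty (F'.obj A.obj) := fun A => by
    by_contra hempty
    obtain ⟨hI⟩ := hne _ (not_nonempty_iff.1 hempty)
    exact IsConnected.notInitial hI
  let P : PointedGaloisObject F ⥤ Type w := PointedGaloisObject.incl F ⋙ F' ⋙ FintypeCat.incl
  haveI : ∀ A, Finite (P.obj A) := fun A => inferInstanceAs (Finite (F'.obj A.obj))
  haveI : ∀ A, Nonempty (P.obj A) := fun A => inferInstanceAs (Nonempty (F'.obj A.obj))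
  haveI := isCofilteredOrEmpty F
  obtain ⟨a', ha'⟩ := nonempty_sections_of_finite_cofiltered_system P
  have hcompat : ∀ {A B : PointedGaloisObject F} (t : A ⟶ B), F'.map t.val (a' A) = a' B :=
    fun t => ha' t
  have hex : ∀ (X : C) (x : F.obj X), ∃ (A : PointedGaloisObject F) (f : A.obj ⟶ X),
      F.map f A.pt = x := fun X x => by
    obtain ⟨A, f, a, hA, hf⟩ := exists_hom_from_galois_of_fiber F X x
    exact ⟨⟨A, a, hA⟩, f, hf⟩
  have hwd : ∀ (X : C) (A B : PointedGaloisObject F) (f : A.obj ⟶ X) (g : B.obj ⟶ X),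
      F.map f A.pt = F.map g B.pt → F'.map f (a' A) = F'.map g (a' B) := fun X A B f g hfg => by
    obtain ⟨Z, s, t, -⟩ := IsCofilteredOrEmpty.cone_objs A B
    have : s.val ≫ f = t.val ≫ g := by
      apply evaluation_injective_of_isConnected F Z.obj X Z.pt
      show F.map (s.val ≫ f) Z.pt = F.map (t.val ≫ g) Z.pt
      rw [F.map_comp, F.map_comp, FintypeCat.comp_apply, FintypeCat.comp_apply, s.comp, t.comp, hfg]
    rw [← hcompat s, ← hcompat t, ← FintypeCat.comp_apply, ← FintypeCat.comp_apply, ← F'.map_comp,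
      ← F'.map_comp, this]
  choose A₀ f₀ hf₀ using hex
  let θ : ∀ X : C, F.obj X → F'.obj X := fun X x => F'.map (f₀ X x) (a' (A₀ X x))
  have hθ : ∀ (X : C) (A : PointedGaloisObject F) (f : A.obj ⟶ X),
      θ X (F.map f A.pt) = F'.map f (a' A) := fun X A f => hwd X _ _ _ _ (hf₀ X _)
  have hinj : ∀ X, Function.Injective (θ X) := fun X x y hxy => by
    obtain ⟨A, a, hA, hb⟩ := exists_galois_representative F X
    obtain ⟨f, hf⟩ := hb.2 x
    obtain ⟨g, hg⟩ := hb.2 y
    let P₀ : PointedGaloisObject F := ⟨A, a, hA⟩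
    change F.map f P₀.pt = x at hf
    change F.map g P₀.pt = y at hg
    rw [← hf, ← hg] at hxy
    have hxy' := (hθ X P₀ f).symm.trans (hxy.trans (hθ X P₀ g))
    haveI : Nonempty (F'.obj (equalizer f g)) := by
      let e := PreservesEqualizer.iso (F' ⋙ FintypeCat.incl) f g
      exact ⟨e.inv ((Types.equalizerIso _ _).inv ⟨a' P₀, hxy'⟩)⟩
    have hnI : IsInitial (equalizer f g) → False := fun hI =>
      (isEmpty_initial F' hI).false (Classical.arbitrary _)
    obtain ⟨z⟩ := (not_initial_iff_fiber_nonempty F _).1 hnI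
    haveI : IsIso (equalizer.ι f g) :=
      IsConnected.noTrivialComponent _ (equalizer.ι f g) (not_initial_of_inhabited F z)
    rw [← hf, ← hg, (eq_of_epi_equalizer : f = g)]
  have hsurj : ∀ X, Function.Surjective (θ X) := fun X p => by
    obtain ⟨A, a, hA, hb⟩ := exists_galois_representative F X
    let P₀ : PointedGaloisObject F := ⟨A, a, hA⟩
    let e := PreservesLimitPair.iso (F' ⋙ FintypeCat.incl) A X ≪≫ Types.binaryProductIso _ _
    let ap : F'.obj (A ⨯ X) := e.inv (a' P₀, p)
    have e1 : F'.map (prod.fst : A ⨯ X ⟶ A) ap = a' P₀ := by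
      show ((e.inv ≫ (F' ⋙ FintypeCat.incl).map prod.fst) : _ → _) _ = _
      simp only [e, Iso.trans_inv, Category.assoc]
      erw [PreservesLimitPair.iso_inv_fst, Types.binaryProductIso_inv_comp_fst]
      rfl
    have e2 : F'.map (prod.snd : A ⨯ X ⟶ X) ap = p := by
      show ((e.inv ≫ (F' ⋙ FintypeCat.incl).map prod.snd) : _ → _) _ = _
      simp only [e, Iso.trans_inv, Category.assoc]
      erw [PreservesLimitPair.iso_inv_snd, Types.binaryProductIso_inv_comp_snd]
      rfl
    obtain ⟨Y, i, q, hY, hi, hiq⟩ := exists_component F F' _ (A ⨯ X) ap rfl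
    haveI := hY
    haveI : Nonempty (F.obj Y) := nonempty_fiber_of_isConnected F Y
    obtain ⟨y, hy⟩ := surjective_of_nonempty_fiber_of_isConnected F (i ≫ prod.fst) a
    have hbij : Function.Bijective (F.map (i ≫ prod.fst)) := by
      refine ⟨fun y₁ y₂ h12 => ?_, surjective_of_nonempty_fiber_of_isConnected F _⟩
      obtain ⟨σ, rfl⟩ := MulAction.exists_smul_eq (Aut F) y y₁
      obtain ⟨τ, rfl⟩ := MulAction.exists_smul_eq (Aut F) y y₂
      rw [← smul_map, ← smul_map, hy] at h12
      apply injective_of_mono F i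
      rw [← smul_map, ← smul_map]
      apply (fiberBinaryProductEquiv F A X).injective
      obtain ⟨⟨a₀, x₀⟩, hax⟩ := (fiberBinaryProductEquiv F A X).symm.surjective (F.map i y)
      have ha0 : a₀ = a := by
        have := congrArg (F.map (prod.fst : A ⨯ X ⟶ A)) hax
        rwa [fiberBinaryProductEquiv_symm_fst_apply, ← FintypeCat.comp_apply, ← F.map_comp, hy] at this
      obtain ⟨k, hk⟩ := hb.2 x₀
      change F.map k a = x₀ at hk
      have key : F.map (prod.lift (𝟙 A) k) a = F.map i y := by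
        rw [← hax]
        apply (fiberBinaryProductEquiv F A X).injective
        rw [Equiv.apply_symm_apply]
        obtain ⟨⟨u₁, u₂⟩, hu⟩ := (fiberBinaryProductEquiv F A X).symm.surjective
          (F.map (prod.lift (𝟙 A) k) a)
        have hu1 := congrArg (F.map (prod.fst : A ⨯ X ⟶ A)) hu
        have hu2 := congrArg (F.map (prod.snd : A ⨯ X ⟶ X)) hu
        rw [fiberBinaryProductEquiv_symm_fst_apply, ← FintypeCat.comp_apply, ← F.map_comp,
          prod.lift_fst, F.map_id, FintypeCat.id_apply] at hu1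
        rw [fiberBinaryProductEquiv_symm_snd_apply, ← FintypeCat.comp_apply, ← F.map_comp,
          prod.lift_snd, hk] at hu2
        rw [← hu, Equiv.apply_symm_apply, hu1, hu2, ha0]
      rw [← key, smul_map, smul_map, h12]
    haveI := isIso_of_bijective' F _ hbij
    let f : A ⟶ X := inv (i ≫ prod.fst) ≫ i ≫ prod.snd
    refine ⟨F.map f P₀.pt, (hθ X P₀ f).trans ?_⟩
    have hq : F'.map (i ≫ prod.fst) q = a' P₀ := by
      rw [F'.map_comp, FintypeCat.comp_apply, hiq, e1]
    show F'.map f (a' P₀) = p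
    rw [← hq, ← FintypeCat.comp_apply, ← F'.map_comp]
    simp only [f, IsIso.hom_inv_id_assoc]
    rw [F'.map_comp, FintypeCat.comp_apply, hiq, e2]
  refine ⟨(NatIso.ofComponents (fun X => FintypeCat.equivEquivIso
    (Equiv.ofBijective (θ X) ⟨hinj X, hsurj X⟩)) fun {X Y} k => ?_).symm⟩
  refine ConcreteCategory.hom_ext _ _ fun x => ?_
  show θ Y (F.map k x) = F'.map k (θ X x)
  obtain ⟨A, f, a, hA, rfl⟩ := exists_hom_from_galois_of_fiber F X x
  rw [← FintypeCat.comp_apply, ← F.map_comp]
  refine (hθ Y ⟨A, a, hA⟩ (f ≫ k)).trans ?_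
  rw [F'.map_comp, FintypeCat.comp_apply]
  exact congrArg _ (hθ X ⟨A, a, hA⟩ f).symm

include F in
omit [PreservesColimitsOfShape (Discrete WalkingPair) F'] in
/-- an exact functor is nonempty on nonempty objects -/
theorem nonempty_of_exact [PreservesFiniteColimits F'] (X : C) (hX : IsEmpty (F'.obj X)) :
    Nonempty (IsInitial X) := by
  by_contra hI
  obtain ⟨x⟩ := (not_initial_iff_fiber_nonempty F X).1 fun h => hI ⟨h⟩
  haveI := isConnected_terminal F
  haveI : Nonempty (F.obj X) := ⟨x⟩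
  haveI := epi_of_nonempty_of_isConnected F (terminal.from X)
  haveI : Epi (F'.map (terminal.from X)) := inferInstance
  have hsurj : Function.Surjective (F'.map (terminal.from X)) :=
    ConcreteCategory.surjective_of_epi_of_preservesPushout _
  let t := (Types.isTerminalEquivUnique _).toFun
    (IsTerminal.isTerminalObj (F' ⋙ FintypeCat.incl) (⊤_ C) terminalIsTerminal)
  obtain ⟨p, -⟩ := hsurj t.default
  exact hX.false p

end Groth.Agent.GalDict
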