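import Mathlib
import Groth.Agent.GalDict.Basic
import Groth.Prelude.Def_Pi1X

/-!
# The homomorphism of fundamental groups attached to an exact functor
-/

set_option autoImplicit false

open CategoryTheory CategoryTheory.Limits CategoryTheory.PreGaloisCategory

namespace Groth.Agent.GalDict

universe u v w

variable {C C' : Type u} [Category.{v} C] [Category.{v} C'] (H : C ⥤ C')
  (F' : C' ⥤ FintypeCat.{w})

local notation "h" => Pi1X.autWhisker H F'

/-- a point of the fibre of `H ⋙ F'` seen in the fibre of `F'` -/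
abbrev dn {X : C} (x : (H ⋙ F').obj X) : F'.obj (H.obj X) := x

theorem whisker_smul (σ : Aut F') (X : C) (x : (H ⋙ F').obj X) :
    h σ • x = σ • dn H F' x := rfl

theorem aut_ext {σ τ : Aut F'} (hh : ∀ (X : C') (x : F'.obj X), σ • x = τ • x) : σ = τ :=
  Iso.ext (NatTrans.ext (funext fun X => ConcreteCategory.hom_ext _ _ (hh X)))

theorem eq_one_iff {σ : Aut F'} : σ = 1 ↔ ∀ (X : C') (x : F'.obj X), σ • x = x :=
  ⟨fun e X x => by rw [e, one_smul], fun hh => aut_ext F' fun X x => by rw [hh, one_smul]⟩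

theorem mem_ker_iff {σ : Aut F'} :
    σ ∈ (h).ker ↔ ∀ (X : C) (x : F'.obj (H.obj X)), σ • x = x := by
  rw [MonoidHom.mem_ker, eq_one_iff]
  exact Iff.rfl

theorem continuous_autWhisker : Continuous h := by
  rw [(autEmbedding_isClosedEmbedding (H ⋙ F')).isInducing.continuous_iff, continuous_pi_iff]
  intro X
  exact (continuous_apply (H.obj X)).comp
    (autEmbedding_isClosedEmbedding F').isInducing.continuous

theorem isClosed_range : IsClosed ((h).range : Set (Aut (H ⋙ F'))) := by
  rw [MonoidHom.coe_range]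
  exact (isCompact_range (continuous_autWhisker H F')).isClosed

theorem range_le_stabilizer_iff (X : C) (a : (H ⋙ F').obj X) :
    (h).range ≤ MulAction.stabilizer (Aut (H ⋙ F')) a ↔
      ∀ σ : Aut F', σ • (dn H F' a) = a := by
  constructor
  · intro hh σ; exact hh ⟨σ, rfl⟩
  · rintro hh _ ⟨σ, rfl⟩; exact hh σ

variable [GaloisCategory C] [GaloisCategory C'] [FiberFunctor F'] [FiberFunctor (H ⋙ F')]

omit [GaloisCategory C] [FiberFunctor (H ⋙ F')] in
theorem range_le_stabilizer_iff_section (X : C) (a : (H ⋙ F').obj X) :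
    (h).range ≤ MulAction.stabilizer (Aut (H ⋙ F')) a ↔
      ∃ s : ⊤_ C' ⟶ H.obj X, ∀ t : F'.obj (⊤_ C'), F'.map s t = a := by
  rw [range_le_stabilizer_iff]
  exact ⟨fun hh => exists_section F' (dn H F' a) hh,
    fun ⟨s, hs⟩ σ => by rw [← hs default]; exact smul_of_section F' s _ σ⟩

omit [FiberFunctor (H ⋙ F')] [GaloisCategory C] in
theorem forall_range_le_iff (X : C) :
    (∀ a : (H ⋙ F').obj X, (h).range ≤ MulAction.stabilizer (Aut (H ⋙ F')) a) ↔
      ∃ n : ℕ, Nonempty (H.obj X ≅ ∐ fun _ : Fin n => ⊤_ C') := by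
  rw [← trivial_iff F']
  exact ⟨fun hh σ x => (range_le_stabilizer_iff H F' X x).1 (hh x) σ,
    fun hh a => (range_le_stabilizer_iff H F' X a).2 fun σ => hh σ _⟩

theorem faithful (F' : C' ⥤ FintypeCat.{w}) [FiberFunctor (H ⋙ F')] : H.Faithful :=
  Functor.Faithful.of_comp H F'

/-- the kernel lies in an open stabiliser iff a connected subobject of some `H X` maps to the object -/
theorem ker_le_stabilizer_iff (X' : C') [IsConnected X'] (a' : F'.obj X') :
    (h).ker ≤ MulAction.stabilizer (Aut F') a' ↔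
      ∃ (X : C) (Y' : C') (i : Y' ⟶ H.obj X) (_ : Y' ⟶ X'), Mono i ∧ IsConnected Y' := by
  constructor
  · intro hh
    let K : (Σ X : C, F'.obj (H.obj X)) → Set (Aut F') := fun p => MulAction.stabilizer (Aut F') p.2
    have hKcl : ∀ p, IsClosed (K p) := fun p =>
      Subgroup.isClosed_of_isOpen _ (stabilizer_isOpen (Aut F') p.2)
    have hempty : (MulAction.stabilizer (Aut F') a' : Set (Aut F'))ᶜ ∩ ⋂ p, K p = ∅ := by
      ext σ
      simp only [Set.mem_inter_iff, Set.mem_compl_iff, Set.mem_iInter, Set.mem_empty_iff_false,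
        iff_false, not_and]
      exact fun hσ hall => hσ (hh ((mem_ker_iff H F').2 fun X x => hall ⟨X, x⟩))
    obtain ⟨s, hs⟩ := (stabilizer_isOpen (Aut F') a').isClosed_compl.isCompact.elim_finite_subfamily_closed
      K hKcl hempty
    obtain ⟨X, b, hb⟩ : ∃ (X : C) (b : F'.obj (H.obj X)),
        ∀ σ : Aut F', σ • b = b → ∀ p ∈ s, σ ∈ K p := by
      classical
      clear hs hempty
      induction s using Finset.induction_on with
      | empty => exact ⟨⊤_ C, (default : (H ⋙ F').obj (⊤_ C)), fun _ _ p hp => by simp at hp⟩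
      | @insert p s _ ih =>
        obtain ⟨X, b, hb⟩ := ih
        let c : (H ⋙ F').obj (X ⨯ p.1) := (fiberBinaryProductEquiv (H ⋙ F') X p.1).symm (b, p.2)
        refine ⟨X ⨯ p.1, c, fun σ hσ q hq => ?_⟩
        have e1 : (H ⋙ F').map prod.fst c = b := fiberBinaryProductEquiv_symm_fst_apply _ _ _
        have e2 : (H ⋙ F').map prod.snd c = p.2 := fiberBinaryProductEquiv_symm_snd_apply _ _ _
        rcases Finset.mem_insert.1 hq with rfl | hq
        · show σ • q.2 = q.2
          rw [← e2]
          exact (smul_map F' σ _ _).trans (congrArg _ hσ)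
        · refine hb σ ?_ q hq
          rw [← e1]
          exact (smul_map F' σ _ _).trans (congrArg _ hσ)
    obtain ⟨Y', i, y, hy, hconn, hmono⟩ := fiber_in_connected_component F' (H.obj X) b
    obtain ⟨q, -⟩ := exists_hom F' y a' fun σ hσ => by
      by_contra hσ'
      have hσb : σ • b = b := by rw [← hy]; exact (smul_map F' σ i y).trans (congrArg _ hσ)
      exact Set.notMem_empty σ (hs.subset ⟨hσ', Set.mem_iInter₂.2 fun p hp => hb σ hσb p hp⟩)
    exact ⟨X, Y', i, q, hmono, hconn⟩
  · rintro ⟨X, Y', i, q, hmono, hconn⟩ σ hσ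
    haveI : Nonempty (F'.obj Y') := nonempty_fiber_of_isConnected F' Y'
    obtain ⟨y, rfl⟩ := surjective_of_nonempty_fiber_of_isConnected F' q a'
    rw [MulAction.mem_stabilizer_iff, smul_map]
    congr 1
    exact injective_of_mono F' i (((smul_map F' σ i y).symm).trans ((mem_ker_iff H F').1 hσ X _))

theorem exists_connected_component_of_fiber (F : C' ⥤ FintypeCat.{w}) [FiberFunctor F] (X : C')
    (x : F.obj X) (σ : Aut F)
    (hh : ∀ (Y : C') [IsConnected Y] (y : F.obj Y), σ • y = y) : σ • x = x := by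
  obtain ⟨Y, i, y, rfl, hconn, -⟩ := fiber_in_connected_component F X x
  rw [smul_map, hh Y y]

theorem injective_iff : Function.Injective h ↔
    ∀ X' : C', IsConnected X' →
      ∃ (X : C) (Y' : C') (p : Y' ⟶ X') (q : Y' ⟶ H.obj X), Epi p ∧ Mono q := by
  constructor
  · intro hinj X' hX'
    obtain ⟨a'⟩ := nonempty_fiber_of_isConnected F' X'
    obtain ⟨X, Y', i, q, hmono, hconn⟩ := (ker_le_stabilizer_iff H F' X' a').1
      (by rw [(MonoidHom.ker_eq_bot_iff _).2 hinj]; exact bot_le)
    haveI : Nonempty (F'.obj Y') := nonempty_fiber_of_isConnected F' Y'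
    exact ⟨X, Y', q, i, epi_of_nonempty_of_isConnected F' q, hmono⟩
  · intro hh
    refine (MonoidHom.ker_eq_bot_iff _).1 (eq_bot_iff.2 fun σ hσ => (eq_one_iff F').2 fun X x => ?_)
    refine exists_connected_component_of_fiber F' X x σ fun Y hY y => ?_
    obtain ⟨Z, Y', p, q, hp, hq⟩ := hh Y hY
    obtain ⟨z, rfl⟩ := surjective_on_fiber_of_epi F' p y
    rw [smul_map]
    congr 1
    exact injective_of_mono F' q (((smul_map F' σ q z).symm).trans ((mem_ker_iff H F').1 hσ Z _))

theorem surjective_iff_forall_top :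
    Function.Surjective h ↔ ∀ (X : C) [IsConnected X] (a : (H ⋙ F').obj X),
      (∀ σ : Aut F', σ • (dn H F' a) = a) →
        MulAction.stabilizer (Aut (H ⋙ F')) a = ⊤ := by
  constructor
  · intro hs X _ a ha
    refine eq_top_iff.2 fun g _ => ?_
    obtain ⟨σ, rfl⟩ := hs g
    exact ha σ
  · intro hh
    rw [← MonoidHom.range_eq_top]
    refine eq_top_of_forall_connected (H ⋙ F') _ (isClosed_range H F') fun X _ a ha => ?_
    exact hh X a ((range_le_stabilizer_iff H F' X a).1 ha)

theorem surjective_iff_preservesConnected :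
    Function.Surjective h ↔ ∀ X : C, IsConnected X → IsConnected (H.obj X) := by
  constructor
  · intro hs X hX
    obtain ⟨x⟩ := nonempty_fiber_of_isConnected (H ⋙ F') X
    refine isConnected_of_transitive F' (dn H F' x) fun y => ?_
    obtain ⟨g, hg⟩ := MulAction.exists_smul_eq (Aut (H ⋙ F')) x (y : (H ⋙ F').obj X)
    obtain ⟨σ, rfl⟩ := hs g
    exact ⟨σ, hg⟩
  · intro hh
    refine (surjective_iff_forall_top H F').2 fun X hX a ha => ?_
    haveI := hh X hX
    refine eq_top_iff.2 fun g _ => ?_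
    obtain ⟨σ, hσ⟩ := MulAction.exists_smul_eq (Aut F') (dn H F' a)
      ((g • a : (H ⋙ F').obj X) : F'.obj (H.obj X))
    exact hσ.symm.trans (ha σ)

theorem surjective_iff_full_faithful : Function.Surjective h ↔ (H.Full ∧ H.Faithful) := by
  constructor
  · intro hs
    haveI := faithful H F'
    refine ⟨⟨fun {X Y} f => ?_⟩, inferInstance⟩
    obtain ⟨ι, c, g, hl, hc, hfin⟩ := has_decomp_connected_components X
    have hi : ∀ i, ∃ k : c i ⟶ Y, H.map k = H.map (g i) ≫ f := fun i => by
      haveI := hc i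
      obtain ⟨a⟩ := nonempty_fiber_of_isConnected (H ⋙ F') (c i)
      obtain ⟨k, hk⟩ := exists_hom (H ⋙ F') a
        ((F'.map (H.map (g i) ≫ f) (dn H F' a) : F'.obj (H.obj Y)) : (H ⋙ F').obj Y)
        fun τ hτ => by
          obtain ⟨σ, rfl⟩ := hs τ
          exact (smul_map F' σ _ _).trans (congrArg _ hτ)
      refine ⟨k, F'.map_injective (ConcreteCategory.hom_ext _ _ fun y => ?_)⟩
      obtain ⟨τ, hτ⟩ := MulAction.exists_smul_eq (Aut (H ⋙ F')) a (y : (H ⋙ F').obj (c i))
      obtain ⟨σ, rfl⟩ := hs τ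
      rw [← hτ, whisker_smul, ← smul_map, ← smul_map]
      exact congrArg (σ • ·) hk
    choose k hk using hi
    let K := Cofan.IsColimit.desc hl k
    refine ⟨K, F'.map_injective (ConcreteCategory.hom_ext _ _ fun y => ?_)⟩
    obtain ⟨⟨j⟩, z, hz⟩ := Concrete.isColimit_exists_rep _
      (isColimitOfPreserves (H ⋙ F') hl) (y : (H ⋙ F').obj X)
    have hz' : F'.map (H.map (g j)) z = y := hz
    rw [← hz', ← FintypeCat.comp_apply, ← FintypeCat.comp_apply, ← F'.map_comp, ← F'.map_comp,
      ← H.map_comp, ← hk j]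
    congr 3
    exact congrArg H.map (Cofan.IsColimit.fac hl k j)
  · rintro ⟨hfull, -⟩
    refine (surjective_iff_forall_top H F').2 fun X hX a ha => ?_
    obtain ⟨s, hs⟩ := exists_section F' (dn H F' a) ha
    obtain ⟨t⟩ : Nonempty (H.obj (⊤_ C) ⟶ ⊤_ C') := ⟨terminal.from _⟩
    obtain ⟨g, hg⟩ := hfull.map_surjective (t ≫ s)
    have he : (H ⋙ F').map g default = a := by
      show F'.map (H.map g) _ = _
      rw [hg, F'.map_comp, FintypeCat.comp_apply, hs]
    exact eq_top_iff.2 fun τ _ => by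
      rw [MulAction.mem_stabilizer_iff, ← he]
      exact smul_of_section (H ⋙ F') g _ τ

end Groth.Agent.GalDict
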