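import Mathlib
import Groth.Agent.GalDict.Whisker
import Groth.Agent.GalDict.Fiber

/-!
# Exact functors of Galois categories and exact sequences of fundamental groups
-/

set_option autoImplicit false

open CategoryTheory CategoryTheory.Limits CategoryTheory.PreGaloisCategory

namespace Groth.Agent.GalDict

universe u v w

/-- a functor isomorphic to a fibre functor is one -/
theorem fiberFunctor_of_iso {C : Type u} [Category.{v} C] [PreGaloisCategory C]
    {F F' : C ⥤ FintypeCat.{w}} [FiberFunctor F] (e : F ≅ F') : FiberFunctor F' where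
  preservesTerminalObjects :=
    haveI := FiberFunctor.preservesTerminalObjects (F := F)
    preservesLimitsOfShape_of_natIso e
  preservesPullbacks :=
    haveI := FiberFunctor.preservesPullbacks (F := F)
    preservesLimitsOfShape_of_natIso e
  preservesFiniteCoproducts :=
    haveI := FiberFunctor.preservesFiniteCoproducts (F := F)
    ⟨fun _ => preservesColimitsOfShape_of_natIso e⟩
  preservesEpis :=
    haveI := FiberFunctor.preservesEpis (F := F)
    Functor.preservesEpimorphisms.of_natTrans e.hom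
  preservesQuotientsByFiniteGroups G _ _ :=
    haveI := FiberFunctor.preservesQuotientsByFiniteGroups (F := F) G
    preservesColimitsOfShape_of_natIso e
  reflectsIsos :=
    haveI := FiberFunctor.reflectsIsos (F := F)
    reflectsIsomorphisms_of_iso e

variable {C C' C'' : Type u} [Category.{v} C] [Category.{v} C'] [Category.{v} C'']
  [GaloisCategory C] [GaloisCategory C'] [GaloisCategory C'']

/-- a fibre functor composed with an exact functor is a fibre functor -/
theorem fiberFunctor_comp (H : C ⥤ C') [PreservesFiniteLimits H] [PreservesFiniteColimits H]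
    (F : C ⥤ FintypeCat.{w}) [FiberFunctor F]
    (F' : C' ⥤ FintypeCat.{w}) [FiberFunctor F'] : FiberFunctor (H ⋙ F') := by
  haveI := FiberFunctor.preservesFiniteCoproducts (F := F')
  haveI : PreservesColimitsOfShape (Discrete WalkingPair) F' :=
    inferInstance
  obtain ⟨e⟩ := nonempty_iso F (H ⋙ F') (fun X hX => by
    by_contra hI
    obtain ⟨x⟩ := (not_initial_iff_fiber_nonempty F X).1 fun h => hI ⟨h⟩
    haveI := isConnected_terminal F
    haveI : Nonempty (F.obj X) := ⟨x⟩
    haveI := epi_of_nonempty_of_isConnected F (terminal.from X)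
    haveI : Epi (H.map (terminal.from X)) := inferInstance
    obtain ⟨p, -⟩ := surjective_on_fiber_of_epi F' (H.map (terminal.from X))
      (F'.map (PreservesTerminal.iso H).inv default)
    exact hX.false p)
  exact fiberFunctor_of_iso e.symm

variable (H : C ⥤ C') (H' : C' ⥤ C'') (F'' : C'' ⥤ FintypeCat.{w}) [FiberFunctor F'']
  [FiberFunctor (H' ⋙ F'')] [FiberFunctor (H ⋙ (H' ⋙ F''))]

local notation "u₁" => Pi1X.autWhisker H (H' ⋙ F'')
local notation "u₂" => Pi1X.autWhisker H' F''

omit [GaloisCategory C] [GaloisCategory C'] [FiberFunctor (H ⋙ (H' ⋙ F''))] [FiberFunctor (H' ⋙ F'')] in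
theorem trivial_comp_iff : (∀ σ : Aut F'', u₁ (u₂ σ) = 1) ↔
    ∀ X : C, ∃ n : ℕ, Nonempty (H'.obj (H.obj X) ≅ ∐ fun _ : Fin n => ⊤_ C'') := by
  simp only [← trivial_iff F'', eq_one_iff]
  exact ⟨fun hh X σ x => hh σ X x, fun hh σ X x => hh X σ x⟩

omit [GaloisCategory C] [FiberFunctor (H ⋙ (H' ⋙ F''))] in
theorem ker_le_range_iff :
    (u₁).ker ≤ (u₂).range ↔
      ∀ (X' : C') (a' : (H' ⋙ F'').obj X'), IsConnected X' →
        (∃ s : ⊤_ C'' ⟶ H'.obj X', ∀ t : F''.obj (⊤_ C''), F''.map s t = a') →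
          (u₁).ker ≤ MulAction.stabilizer (Aut (H' ⋙ F'')) a' := by
  constructor
  · intro hh X' a' _ hs σ hσ
    exact (range_le_stabilizer_iff_section H' F'' X' a').2 hs (hh hσ)
  · intro hh σ hσ
    refine mem_of_forall_open (H' ⋙ F'') _ (isClosed_range H' F'') σ fun V hV => ?_
    obtain ⟨X', hX', a', ha'⟩ := exists_stabilizer_eq (H' ⋙ F'') V
    have := hh X' a' hX' ((range_le_stabilizer_iff_section H' F'' X' a').1 (ha' ▸ hV)) hσ
    rw [ha'] at this
    exact this

/-- an object killed on the kernel of a surjection comes from the source category -/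
theorem exists_iso_of_ker_le {H : C ⥤ C'} [PreservesFiniteColimits H] (F' : C' ⥤ FintypeCat.{w})
    [FiberFunctor F'] [FiberFunctor (H ⋙ F')] (hs : Function.Surjective (Pi1X.autWhisker H F'))
    (X' : C') (hk : ∀ x : F'.obj X', (Pi1X.autWhisker H F').ker ≤ MulAction.stabilizer (Aut F') x) :
    ∃ X : C, Nonempty (H.obj X ≅ X') := by
  obtain ⟨ι, c, g, hl, hc, hfin⟩ := has_decomp_connected_components X'
  have hone : ∀ i, ∃ X : C, Nonempty (H.obj X ≅ c i) := fun i => by
    haveI := hc i
    obtain ⟨a⟩ := nonempty_fiber_of_isConnected F' (c i)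
    haveI : Mono (g i) := MonoCoprod.mono_inj _ (Cofan.mk X' g) hl i
    have hka : (Pi1X.autWhisker H F').ker ≤ MulAction.stabilizer (Aut F') a := by
      rw [← stabilizer_map_eq F' (g i) a]
      exact hk _
    have hquot : Topology.IsQuotientMap (Pi1X.autWhisker H F') :=
      Topology.IsQuotientMap.of_surjective_continuous hs (continuous_autWhisker H F')
    let S := (MulAction.stabilizer (Aut F') a).map (Pi1X.autWhisker H F')
    have hpre : S.comap (Pi1X.autWhisker H F') = MulAction.stabilizer (Aut F') a := by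
      rw [Subgroup.comap_map_eq, sup_eq_left.2 hka]
    have hopen : IsOpen (S : Set (Aut (H ⋙ F'))) := by
      rw [← hquot.isOpen_preimage, ← Subgroup.coe_comap, hpre]
      exact stabilizer_isOpen (Aut F') a
    obtain ⟨X, hX, b, hb⟩ := exists_stabilizer_eq (H ⋙ F') ⟨S, hopen⟩
    haveI := (surjective_iff_preservesConnected H F').1 hs X hX
    have hbs : MulAction.stabilizer (Aut F') (dn H F' b) = MulAction.stabilizer (Aut F') a := by
      rw [← hpre]
      ext σ
      rw [Subgroup.mem_comap, show S = MulAction.stabilizer (Aut (H ⋙ F')) b from hb.symm]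
      exact Iff.rfl
    obtain ⟨f, hf⟩ := exists_hom F' (dn H F' b) a hbs.le
    obtain ⟨f', hf'⟩ := exists_hom F' a (dn H F' b) hbs.ge
    refine ⟨X, ⟨⟨f, f', ?_, ?_⟩⟩⟩
    · apply evaluation_injective_of_isConnected F' (H.obj X) _ (dn H F' b)
      show F'.map (f ≫ f') _ = F'.map (𝟙 _) _
      rw [F'.map_comp, FintypeCat.comp_apply, hf, hf', F'.map_id, FintypeCat.id_apply]
    · apply evaluation_injective_of_isConnected F' (c i) _ a
      show F'.map (f' ≫ f) _ = F'.map (𝟙 _) _
      rw [F'.map_comp, FintypeCat.comp_apply, hf', hf, F'.map_id, FintypeCat.id_apply]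
  choose X hX using hone
  obtain ⟨n, ⟨e⟩⟩ := Finite.exists_equiv_fin ι
  haveI : PreservesColimitsOfShape (Discrete ι) H :=
    preservesColimitsOfShape_of_equiv (Discrete.equivalence e.symm) H
  exact ⟨∐ X, ⟨PreservesCoproduct.iso H X ≪≫ Sigma.mapIso (fun i => (hX i).some) ≪≫
    colimit.isoColimitCocone ⟨Cofan.mk X' g, hl⟩⟩⟩

theorem exact_iff [PreservesFiniteColimits H] :
    (Function.Surjective u₁ ∧ (∀ σ : Aut F'', u₁ (u₂ σ) = 1) ∧
      (u₁).ker = (Subgroup.normalClosure (Set.range u₂)).topologicalClosure) ↔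
    ((H.Full ∧ H.Faithful) ∧
      ∀ X' : C', (∃ X : C, Nonempty (H.obj X ≅ X')) ↔
        ∃ n : ℕ, Nonempty (H'.obj X' ≅ ∐ fun _ : Fin n => ⊤_ C'')) := by
  constructor
  · rintro ⟨hs, ht, hker⟩
    refine ⟨(surjective_iff_full_faithful H (H' ⋙ F'')).1 hs, fun X' => ⟨?_, fun hX' => ?_⟩⟩
    · rintro ⟨X, ⟨e⟩⟩
      obtain ⟨n, ⟨e'⟩⟩ := (trivial_comp_iff H H' F'').1 ht X
      exact ⟨n, ⟨(H'.mapIso e).symm ≪≫ e'⟩⟩
    · refine exists_iso_of_ker_le (H' ⋙ F'') hs X' fun x => ?_
      have htriv := (trivial_iff F'').2 hX'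
      have hfix : Subgroup.normalClosure (Set.range u₂) ≤
          ⨅ y : (H' ⋙ F'').obj X', MulAction.stabilizer (Aut (H' ⋙ F'')) y := by
        rw [Subgroup.normalClosure, Subgroup.closure_le]
        intro g hg
        obtain ⟨a, ⟨σ, rfl⟩, hga⟩ := Group.mem_conjugatesOfSet_iff.1 hg
        obtain ⟨k, rfl⟩ := isConj_iff.1 hga
        rw [SetLike.mem_coe, Subgroup.mem_iInf]
        intro y
        rw [MulAction.mem_stabilizer_iff, mul_smul, mul_smul]
        have h2 : u₂ σ • (k⁻¹ • y) = k⁻¹ • y := htriv σ (dn H' F'' (k⁻¹ • y))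
        rw [h2, smul_inv_smul]
      rw [hker]
      exact Subgroup.topologicalClosure_minimal _ (hfix.trans (iInf_le _ x))
        (Subgroup.isClosed_of_isOpen _ (stabilizer_isOpen (Aut (H' ⋙ F'')) x))
  · rintro ⟨hff, himg⟩
    have ht : ∀ σ : Aut F'', u₁ (u₂ σ) = 1 :=
      (trivial_comp_iff H H' F'').2 fun X => (himg (H.obj X)).1 ⟨X, ⟨Iso.refl _⟩⟩
    refine ⟨(surjective_iff_full_faithful H (H' ⋙ F'')).2 hff, ht, le_antisymm (fun g hg => ?_) ?_⟩
    · refine mem_of_forall_open (H' ⋙ F'') _ (Subgroup.isClosed_topologicalClosure _) g fun V hV => ?_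
      obtain ⟨X', hX', a', ha'⟩ := exists_stabilizer_eq (H' ⋙ F'') V
      have hall : ∀ (σ : Aut F'') (y : F''.obj (H'.obj X')), σ • y = y := fun σ y => by
        obtain ⟨k, hk⟩ := MulAction.exists_smul_eq (Aut (H' ⋙ F'')) a' (y : (H' ⋙ F'').obj X')
        have hmem : k⁻¹ * u₂ σ * k ∈ MulAction.stabilizer (Aut (H' ⋙ F'')) a' := by
          rw [ha']
          refine hV (Subgroup.le_topologicalClosure _ ?_)
          have h0 := Subgroup.normalClosure_normal.conj_mem (u₂ σ)
            (Subgroup.subset_normalClosure (s := Set.range u₂) ⟨σ, rfl⟩) k⁻¹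
          rwa [inv_inv] at h0
        rw [MulAction.mem_stabilizer_iff, mul_smul, mul_smul, inv_smul_eq_iff, hk] at hmem
        exact hmem
      obtain ⟨X, ⟨e⟩⟩ := (himg X').2 ((trivial_iff F'').1 hall)
      show g ∈ V.toSubgroup
      rw [← ha', MulAction.mem_stabilizer_iff]
      obtain ⟨b, rfl⟩ : ∃ b, (H' ⋙ F'').map e.hom b = a' :=
        ⟨(H' ⋙ F'').map e.inv a', by
          rw [← FintypeCat.comp_apply, ← Functor.map_comp, e.inv_hom_id, (H' ⋙ F'').map_id,
            FintypeCat.id_apply]⟩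
      rw [smul_map, (mem_ker_iff H (H' ⋙ F'')).1 hg X b]
    · refine Subgroup.topologicalClosure_minimal _ (Subgroup.normalClosure_le_normal ?_) ?_
      · rintro _ ⟨σ, rfl⟩
        exact MonoidHom.mem_ker.2 (ht σ)
      · rw [MonoidHom.coe_ker]
        exact isClosed_singleton.preimage (continuous_autWhisker H (H' ⋙ F''))

end Groth.Agent.GalDict
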